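import Mathlib
import Groth.Agent.Lib.Helper8.DimFib.A

/-! Helper8: dim B = dim A + dim (B / m_A B) under the EGA condition on minimal primes. -/

set_option autoImplicit false
universe u

namespace Groth.Agent.H8.DimFib

open IsLocalRing

/-- the condition of EGA -/
def Cond {A B : Type*} [CommRing A] [CommRing B] [IsLocalRing A] (φ : A →+* B) : Prop :=
  ∀ p : Ideal A, p.IsPrime → p ≠ maximalIdeal A →
    ∀ q ∈ (p.map φ).minimalPrimes, q.comap φ ≠ maximalIdeal A

section Avoid

variable {A B : Type u} [CommRing A] [CommRing B] [IsNoetherianRing A] [IsNoetherianRing B]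
  [IsLocalRing A] [IsLocalRing B] (φ : A →+* B) [IsLocalHom φ]

lemma maximalIdeal_notMem_minimalPrimes (hd : ¬ ringKrullDim A ≤ 0) :
    maximalIdeal A ∉ minimalPrimes A := by
  intro h
  have h1 := (Ideal.height_eq_zero_iff (I := maximalIdeal A)).mpr h
  have h2 := IsLocalRing.maximalIdeal_height_eq_ringKrullDim (R := A)
  rw [h1] at h2
  exact hd (le_of_eq h2.symm)

lemma comap_ne_of_minimalPrimes (hc : Cond φ) (hd : ¬ ringKrullDim A ≤ 0)
    (Q : Ideal B) (hQ : Q ∈ minimalPrimes B) : Q.comap φ ≠ maximalIdeal A := by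
  haveI := hQ.1.1
  obtain ⟨p, hp, hpQ⟩ := Ideal.exists_minimalPrimes_le (I := (⊥ : Ideal A)) (J := Q.comap φ) bot_le
  have hpmax : p ≠ maximalIdeal A := fun h => maximalIdeal_notMem_minimalPrimes hd (h ▸ hp)
  refine hc p hp.1.1 hpmax Q ⟨⟨hQ.1.1, Ideal.map_le_iff_le_comap.mpr hpQ⟩, ?_⟩
  intro Q' hQ' hle
  exact hQ.2 ⟨hQ'.1, bot_le⟩ hle

lemma exists_avoid (hc : Cond φ) (hd : ¬ ringKrullDim A ≤ 0) :
    ∃ x ∈ maximalIdeal A, (∀ p ∈ minimalPrimes A, x ∉ p) ∧
      (∀ Q ∈ minimalPrimes B, φ x ∉ Q) := by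
  classical
  have hfinA : (minimalPrimes A).Finite := minimalPrimes.finite_of_isNoetherianRing A
  have hfinB : (minimalPrimes B).Finite := minimalPrimes.finite_of_isNoetherianRing B
  let s : Finset (Ideal A) := hfinA.toFinset ∪ (hfinB.toFinset.image (Ideal.comap φ))
  have hprime : ∀ i ∈ s, i.IsPrime := by
    intro i hi
    rw [Finset.mem_union, Set.Finite.mem_toFinset, Finset.mem_image] at hi
    rcases hi with hi | ⟨Q, hQ, rfl⟩
    · exact hi.1.1
    · rw [Set.Finite.mem_toFinset] at hQ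
      haveI := hQ.1.1
      exact Ideal.comap_isPrime φ Q
  have hne : ∀ i ∈ s, i ≠ maximalIdeal A := by
    intro i hi
    rw [Finset.mem_union, Set.Finite.mem_toFinset, Finset.mem_image] at hi
    rcases hi with hi | ⟨Q, hQ, rfl⟩
    · exact fun h => maximalIdeal_notMem_minimalPrimes hd (h ▸ hi)
    · rw [Set.Finite.mem_toFinset] at hQ
      exact comap_ne_of_minimalPrimes φ hc hd Q hQ
  have hnot : ¬ ((maximalIdeal A : Set A) ⊆ ⋃ i ∈ (s : Set (Ideal A)), (id i : Ideal A)) := by
    rw [Ideal.subset_union_prime (f := id) (maximalIdeal A) (maximalIdeal A)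
      (fun i hi _ _ => hprime i hi)]
    rintro ⟨i, hi, hle⟩
    haveI := hprime i hi
    exact hne i hi ((maximalIdeal.isMaximal A).eq_of_le (hprime i hi).ne_top hle).symm
  rw [Set.not_subset] at hnot
  obtain ⟨x, hx, hxn⟩ := hnot
  simp only [id, Set.mem_iUnion, not_exists] at hxn
  refine ⟨x, hx, ?_, ?_⟩
  · intro p hp hxp
    exact hxn p (by simp [s, hp]) hxp
  · intro Q hQ hxQ
    refine hxn (Q.comap φ) ?_ hxQ
    simp only [s, Finset.coe_union, Set.mem_union, Finset.mem_coe, Set.Finite.mem_toFinset,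
      Finset.mem_image]
    exact Or.inr ⟨Q, hQ, rfl⟩

end Avoid

section Quot

variable {A B : Type u} [CommRing A] [CommRing B] [IsLocalRing A] [IsLocalRing B]
  (φ : A →+* B) [IsLocalHom φ] (x : A)

/-- the induced map on quotients by `x` -/
noncomputable def quotMap : A ⧸ Ideal.span {x} →+* B ⧸ Ideal.span {φ x} :=
  Ideal.quotientMap (Ideal.span {φ x}) φ (by
    rw [Ideal.span_le, Set.singleton_subset_iff]
    exact Ideal.subset_span rfl)

lemma quotMap_mk (a : A) : quotMap φ x (Ideal.Quotient.mk _ a) = Ideal.Quotient.mk _ (φ a) := rfl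

variable (hx : x ∈ maximalIdeal A)

include hx in
lemma nontrivial_quotA : Nontrivial (A ⧸ Ideal.span {x}) := by
  rw [Ideal.Quotient.nontrivial_iff]
  intro h
  have : Ideal.span {x} ≤ maximalIdeal A := by
    rw [Ideal.span_le, Set.singleton_subset_iff]; exact hx
  rw [h] at this
  exact (maximalIdeal.isMaximal A).ne_top (top_le_iff.mp this)

include hx in
lemma nontrivial_quotB : Nontrivial (B ⧸ Ideal.span {φ x}) :=
  nontrivial_quotA (φ x) (map_nonunit φ x hx)

include hx in
lemma isLocalRing_quotA : IsLocalRing (A ⧸ Ideal.span {x}) :=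
  haveI := nontrivial_quotA x hx
  IsLocalRing.of_surjective' (Ideal.Quotient.mk _) Ideal.Quotient.mk_surjective

include hx in
lemma isLocalRing_quotB : IsLocalRing (B ⧸ Ideal.span {φ x}) :=
  isLocalRing_quotA (φ x) (map_nonunit φ x hx)

lemma maximalIdeal_quot (hl : IsLocalRing (A ⧸ Ideal.span {x})) :
    maximalIdeal (A ⧸ Ideal.span {x}) = (maximalIdeal A).map (Ideal.Quotient.mk _) :=
  (IsLocalRing.map_maximalIdeal_of_surjective (Ideal.Quotient.mk _)
    Ideal.Quotient.mk_surjective).symm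

lemma comap_maximalIdeal_quot (hl : IsLocalRing (A ⧸ Ideal.span {x})) :
    (maximalIdeal (A ⧸ Ideal.span {x})).comap (Ideal.Quotient.mk _) = maximalIdeal A := by
  haveI : IsLocalHom (Ideal.Quotient.mk (Ideal.span {x})) :=
    IsLocalHom.of_surjective _ Ideal.Quotient.mk_surjective
  exact IsLocalRing.maximalIdeal_comap _

include hx in
lemma isLocalHom_quotMap (hlA : IsLocalRing (A ⧸ Ideal.span {x}))
    (hlB : IsLocalRing (B ⧸ Ideal.span {φ x})) : IsLocalHom (quotMap φ x) := by
  refine ((local_hom_TFAE (quotMap φ x)).out 1 0).mp ?_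
  rintro _ ⟨a', ha', rfl⟩
  obtain ⟨a, rfl⟩ := Ideal.Quotient.mk_surjective a'
  rw [SetLike.mem_coe, maximalIdeal_quot x hlA] at ha'
  have ha : a ∈ maximalIdeal A := by
    rw [← comap_maximalIdeal_quot x hlA, Ideal.mem_comap, maximalIdeal_quot x hlA]
    exact ha'
  rw [quotMap_mk, SetLike.mem_coe, maximalIdeal_quot (φ x) hlB]
  exact Ideal.mem_map_of_mem _ (map_nonunit φ a ha)

include hx in
lemma cond_quotMap (hc : Cond φ) (hlA : IsLocalRing (A ⧸ Ideal.span {x})) :
    Cond (quotMap φ x) := by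
  intro p' hp' hne q' hq'
  set πA := Ideal.Quotient.mk (Ideal.span {x}) with hπA
  set πB := Ideal.Quotient.mk (Ideal.span {φ x}) with hπB
  have hπAs : Function.Surjective πA := Ideal.Quotient.mk_surjective
  have hπBs : Function.Surjective πB := Ideal.Quotient.mk_surjective
  set p := p'.comap πA with hp
  haveI : p.IsPrime := Ideal.comap_isPrime πA p'
  have hxp : x ∈ p := by
    rw [hp, Ideal.mem_comap]
    have : πA x = 0 := Ideal.Quotient.eq_zero_iff_mem.mpr (Ideal.subset_span rfl)
    rw [this]; exact Ideal.zero_mem _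
  have hpne : p ≠ maximalIdeal A := by
    intro h
    apply hne
    rw [← Ideal.map_comap_of_surjective πA hπAs p', ← hp, h, maximalIdeal_quot x hlA]
  have hcomm : (quotMap φ x).comp πA = πB.comp φ := by
    ext a; rfl
  have hcomap : ((p'.map (quotMap φ x)).comap πB) = p.map φ := by
    have h1 : p'.map (quotMap φ x) = (p.map φ).map πB := by
      rw [← Ideal.map_comap_of_surjective πA hπAs p', ← hp, Ideal.map_map, Ideal.map_map, hcomm]
    rw [h1, Ideal.comap_map_of_surjective πB hπBs, sup_eq_left]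
    have : (⊥ : Ideal _).comap πB = Ideal.span {φ x} := by
      rw [← RingHom.ker_eq_comap_bot, hπB, Ideal.mk_ker]
    rw [this, Ideal.span_le, Set.singleton_subset_iff]
    exact Ideal.mem_map_of_mem φ hxp
  have hq : q'.comap πB ∈ (p.map φ).minimalPrimes := by
    rw [← hcomap]
    exact Ideal.minimalPrimes_comap_of_surjective hπBs hq'
  have h2 := hc p inferInstance hpne _ hq
  intro h3
  apply h2
  rw [Ideal.comap_comap, ← hcomm, ← Ideal.comap_comap, h3, comap_maximalIdeal_quot x hlA]

include hx in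
/-- the closed fibres agree. -/
lemma ringKrullDim_fibre_quot (hlA : IsLocalRing (A ⧸ Ideal.span {x})) :
    ringKrullDim ((B ⧸ Ideal.span {φ x}) ⧸
      (maximalIdeal (A ⧸ Ideal.span {x})).map (quotMap φ x)) =
    ringKrullDim (B ⧸ (maximalIdeal A).map φ) := by
  set πA := Ideal.Quotient.mk (Ideal.span {x}) with hπA
  set πB := Ideal.Quotient.mk (Ideal.span {φ x}) with hπB
  have hcomm : (quotMap φ x).comp πA = πB.comp φ := by
    ext a; rfl
  have h1 : (maximalIdeal (A ⧸ Ideal.span {x})).map (quotMap φ x) =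
      ((maximalIdeal A).map φ).map πB := by
    rw [maximalIdeal_quot x hlA, Ideal.map_map, Ideal.map_map, hcomm]
  have h2 : Ideal.span {φ x} ⊔ (maximalIdeal A).map φ = (maximalIdeal A).map φ := by
    rw [sup_eq_right, Ideal.span_le, Set.singleton_subset_iff]
    exact Ideal.mem_map_of_mem φ hx
  rw [h1]
  exact ringKrullDim_eq_of_ringEquiv
    ((DoubleQuot.quotQuotEquivQuotSup (Ideal.span {φ x}) ((maximalIdeal A).map φ)).trans
      (Ideal.quotEquivOfEq h2))

end Quot


theorem dim_add_le (n : ℕ) : ∀ (A B : Type u) [CommRing A] [CommRing B] [IsNoetherianRing A]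
    [IsNoetherianRing B] [IsLocalRing A] [IsLocalRing B] (φ : A →+* B) [IsLocalHom φ],
    ringKrullDim A ≤ n → Cond φ →
    ringKrullDim A + ringKrullDim (B ⧸ (maximalIdeal A).map φ) ≤ ringKrullDim B := by
  induction n with
  | zero =>
    intro A B _ _ _ _ _ _ φ _ hd _
    have h1 : ringKrullDim A + ringKrullDim (B ⧸ (maximalIdeal A).map φ) ≤
        0 + ringKrullDim (B ⧸ (maximalIdeal A).map φ) := by
      gcongr
      exact_mod_cast hd
    rw [zero_add] at h1
    exact h1.trans (ringKrullDim_quotient_le _)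
  | succ n ih =>
    intro A B _ _ _ _ _ _ φ _ hd hc
    by_cases hd0 : ringKrullDim A ≤ 0
    · have h1 : ringKrullDim A + ringKrullDim (B ⧸ (maximalIdeal A).map φ) ≤
          0 + ringKrullDim (B ⧸ (maximalIdeal A).map φ) := by
        gcongr
      rw [zero_add] at h1
      exact h1.trans (ringKrullDim_quotient_le _)
    obtain ⟨x, hx, hxA, hxB⟩ := exists_avoid φ hc hd0
    haveI hlA := isLocalRing_quotA x hx
    haveI hlB := isLocalRing_quotB φ x hx
    haveI := isLocalHom_quotMap φ x hx hlA hlB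
    have hdA : ringKrullDim (A ⧸ Ideal.span {x}) + 1 ≤ ringKrullDim A :=
      ringKrullDim_quotient_succ_le_of_notMem_minimalPrimes hxA
    have hdB : ringKrullDim (B ⧸ Ideal.span {φ x}) + 1 ≤ ringKrullDim B :=
      ringKrullDim_quotient_succ_le_of_notMem_minimalPrimes hxB
    have hdA' : ringKrullDim (A ⧸ Ideal.span {x}) ≤ n := by
      have := hdA.trans hd
      push_cast at this
      exact ENat.WithBot.add_le_add_natCast_right_iff.mp (by exact_mod_cast this)
    have h1 := ih (A ⧸ Ideal.span {x}) (B ⧸ Ideal.span {φ x}) (quotMap φ x) hdA'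
      (cond_quotMap φ x hx hc hlA)
    rw [ringKrullDim_fibre_quot φ x hx hlA] at h1
    have hdA2 : ringKrullDim A ≤ ringKrullDim (A ⧸ Ideal.span {x}) + 1 := by
      have := ringKrullDim_le_ringKrullDim_quotient_add_encard (R := A) ({x} : Set A) (by
        rw [IsLocalRing.ringJacobson_eq_maximalIdeal]
        simpa using hx)
      simpa using this
    calc ringKrullDim A + ringKrullDim (B ⧸ (maximalIdeal A).map φ)
        ≤ (ringKrullDim (A ⧸ Ideal.span {x}) + 1) +
            ringKrullDim (B ⧸ (maximalIdeal A).map φ) := by gcongr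
      _ = (ringKrullDim (A ⧸ Ideal.span {x}) +
            ringKrullDim (B ⧸ (maximalIdeal A).map φ)) + 1 := by
          rw [add_right_comm]
      _ ≤ ringKrullDim (B ⧸ Ideal.span {φ x}) + 1 := by gcongr
      _ ≤ ringKrullDim B := hdB

theorem dim_le {A B : Type u} [CommRing A] [CommRing B] [IsNoetherianRing A]
    [IsNoetherianRing B] [IsLocalRing A] [IsLocalRing B] (φ : A →+* B) [IsLocalHom φ] :
    ringKrullDim B ≤ ringKrullDim A + ringKrullDim (B ⧸ (maximalIdeal A).map φ) := by
  letI : Algebra A B := φ.toAlgebra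
  haveI : (maximalIdeal B).LiesOver (maximalIdeal A) :=
    ⟨(IsLocalRing.maximalIdeal_comap φ).symm⟩
  have h1 := Ideal.height_le_height_add_of_liesOver (maximalIdeal A) (maximalIdeal B)
  have hne : Nontrivial (B ⧸ (maximalIdeal A).map φ) := by
    rw [Ideal.Quotient.nontrivial_iff]
    exact (IsLocalRing.map_maximalIdeal_lt_top φ).ne
  haveI : IsLocalRing (B ⧸ (maximalIdeal A).map φ) :=
    IsLocalRing.of_surjective' (Ideal.Quotient.mk _) Ideal.Quotient.mk_surjective
  have h2 : (maximalIdeal B).map (Ideal.Quotient.mk ((maximalIdeal A).map (algebraMap A B))) =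
      maximalIdeal (B ⧸ (maximalIdeal A).map φ) :=
    IsLocalRing.map_maximalIdeal_of_surjective (Ideal.Quotient.mk _) Ideal.Quotient.mk_surjective
  rw [h2] at h1
  rw [← IsLocalRing.maximalIdeal_height_eq_ringKrullDim (R := B),
    ← IsLocalRing.maximalIdeal_height_eq_ringKrullDim (R := A),
    ← IsLocalRing.maximalIdeal_height_eq_ringKrullDim (R := B ⧸ (maximalIdeal A).map φ)]
  exact_mod_cast h1

theorem main (A B : Type u) [CommRing A] [CommRing B] [IsNoetherianRing A]
    [IsNoetherianRing B] [IsLocalRing A] [IsLocalRing B] (φ : A →+* B) [IsLocalHom φ]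
    (hc : Cond φ) :
    ringKrullDim B = ringKrullDim A + ringKrullDim (B ⧸ (maximalIdeal A).map φ) := by
  refine le_antisymm (dim_le φ) ?_
  obtain ⟨n, hn⟩ : ∃ n : ℕ, ringKrullDim A ≤ n := by
    have := IsLocalRing.maximalIdeal_height_eq_ringKrullDim (R := A)
    have hfin : (maximalIdeal A).height ≠ ⊤ := Ideal.height_ne_top (maximalIdeal.isMaximal A).ne_top
    obtain ⟨m, hm⟩ := ENat.ne_top_iff_exists.mp hfin
    exact ⟨m, by rw [← this, ← hm]; rfl⟩
  exact dim_add_le n A B φ hn hc

end Groth.Agent.H8.DimFib
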